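import Groth.Agent.CILib.KoszulCalc
import Mathlib

/-!
The Koszul complex of a sequence scaled by a nonzerodivisor.
-/

set_option autoImplicit false
set_option linter.style.haveILetI false
set_option backward.isDefEq.respectTransparency false

universe u

open CategoryTheory CategoryTheory.Limits CochainComplex

noncomputable section

namespace Groth.Agent.KoszulRowLib

open Groth.Agent.KoszulCech Groth.Agent.KosStableLib

variable {A : Type u} [CommRing A]

/-- An identification of `K'` with `K`, the differential multiplied by `x`, in a complex without `x`-torsion. -/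
structure Scale (x : A) (K' K : CochainComplex (ModuleCat.{u} A) ℤ) where
  e : ∀ k, K'.X k ≃ₗ[A] K.X k
  comm : ∀ i j, i + 1 = j → ∀ z, e j (K'.d i j z) = x • K.d i j (e i z)
  tf : ∀ (k : ℤ) (z : K.X k), x • z = 0 → z = 0

variable {x : A} {K' K : CochainComplex (ModuleCat.{u} A) ℤ}

/-- The cone of a multiplication. -/
def Scale.cone (S : Scale x K' K) (f : A) :
    Scale x (mappingCone ((x * f) • 𝟙 K')) (mappingCone (f • 𝟙 K)) where
  e k :=
    { toFun := fun z => cmk (f • 𝟙 K) k (k + 1) rfl (S.e (k + 1) (cfst ((x * f) • 𝟙 K') k (k + 1) rfl z))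
        (S.e k (csnd ((x * f) • 𝟙 K') k z))
      invFun := fun y => cmk ((x * f) • 𝟙 K') k (k + 1) rfl
        ((S.e (k + 1)).symm (cfst (f • 𝟙 K) k (k + 1) rfl y)) ((S.e k).symm (csnd (f • 𝟙 K) k y))
      left_inv := fun z => cone_ext _ rfl (by simp [cfst_cmk]) (by simp [csnd_cmk])
      right_inv := fun y => cone_ext _ rfl (by simp [cfst_cmk]) (by simp [csnd_cmk])
      map_add' := fun z y => cone_ext _ rfl (by simp [cfst_cmk]) (by simp [csnd_cmk])
      map_smul' := fun a z => cone_ext _ rfl (by simp [cfst_cmk]) (by simp [csnd_cmk]) }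
  comm i j hij z := by
    subst hij
    refine cone_ext _ rfl ?_ ?_
    · simp [cfst_cmk, cfst_d _ rfl rfl, S.comm _ _ rfl]
    · simp [cfst_cmk, csnd_cmk, csnd_d _ rfl, S.comm _ _ rfl, smulId_f_apply, mul_smul]
  tf k z hz := cone_ext _ rfl
    (by rw [map_zero]; exact S.tf _ _ (by rw [← map_smul, hz, map_zero]))
    (by rw [map_zero]; exact S.tf _ _ (by rw [← map_smul, hz, map_zero]))

/-- The degree zero complex. -/
def Scale.single (hx : x ∈ nonZeroDivisors A) :
    Scale x ((CochainComplex.singleFunctor (ModuleCat.{u} A) 0).obj (ModuleCat.of A A))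
      ((CochainComplex.singleFunctor (ModuleCat.{u} A) 0).obj (ModuleCat.of A A)) where
  e _ := LinearEquiv.refl A _
  comm i j _ z := by simp [CochainComplex.singleFunctor, CochainComplex.singleFunctors]
  tf k z hz := by
    by_cases h : k = 0
    · let e := (HomologicalComplex.singleObjXIsoOfEq (ComplexShape.up ℤ) 0 (ModuleCat.of A A) k h).toLinearEquiv
      refine e.injective ?_
      rw [map_zero]
      have h1 : x * e z = 0 := by
        rw [← smul_eq_mul]
        exact (map_smul e x z).symm.trans ((congrArg e hz).trans (map_zero e))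
      exact (mul_left_mem_nonZeroDivisors_eq_zero_iff hx).1 h1
    · haveI := ModuleCat.subsingleton_of_isZero
        (HomologicalComplex.isZero_single_obj_X (ComplexShape.up ℤ) 0 (ModuleCat.of A A) k h)
      exact @Subsingleton.elim _ this _ _

/-- The scaling identification for Koszul complexes. -/
def scaleKoszul (hx : x ∈ nonZeroDivisors A) :
    ∀ l : List A, Scale x (Koszul.koszul A (l.map fun f => x * f)) (Koszul.koszul A l)
  | [] => Scale.single hx
  | f :: l => (scaleKoszul hx l).cone f

theorem Scale.nonempty_homology_iso (S : Scale x K' K) (q : ℤ) :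
    Nonempty (K'.homology q ≅ ModuleCat.of A (↥(LinearMap.ker (K.d q (q + 1)).hom) ⧸
        Submodule.comap (LinearMap.ker (K.d q (q + 1)).hom).subtype
          (Ideal.span {x} • LinearMap.range (K.d (q - 1) q).hom))) := by
  let i₁ := K'.homologyIsoSc' (q - 1) q (q + 1) (by simp) (by simp)
  refine ⟨i₁ ≪≫ (K'.sc' (q - 1) q (q + 1)).moduleCatHomologyIso ≪≫ LinearEquiv.toModuleIso ?_⟩
  have hker : Submodule.map (S.e q).toLinearMap (LinearMap.ker (K'.d q (q + 1)).hom) =
      LinearMap.ker (K.d q (q + 1)).hom := by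
    ext z
    obtain ⟨w, rfl⟩ := (S.e q).surjective z
    rw [Submodule.mem_map_equiv, LinearEquiv.symm_apply_apply, LinearMap.mem_ker, LinearMap.mem_ker]
    constructor
    · intro h
      exact S.tf _ _ ((S.comm q (q + 1) rfl w).symm.trans ((congrArg (S.e (q + 1)) h).trans (map_zero _)))
    · intro h
      refine (S.e (q + 1)).injective ?_
      rw [map_zero]
      exact (S.comm q (q + 1) rfl w).trans (by rw [show K.d q (q + 1) (S.e q w) = 0 from h, smul_zero])
  refine Submodule.Quotient.equiv _ _ ((S.e q).ofSubmodules _ _ hker) ?_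
  ext z
  constructor
  · rintro ⟨_, ⟨y, rfl⟩, rfl⟩
    show S.e q (K'.d (q - 1) q y) ∈ Ideal.span {x} • LinearMap.range (K.d (q - 1) q).hom
    rw [S.comm (q - 1) q (by omega)]
    exact Submodule.smul_mem_smul (Ideal.mem_span_singleton_self x) ⟨_, rfl⟩
  · intro hz
    rw [Submodule.mem_comap, Submodule.ideal_span_singleton_smul, Submodule.mem_smul_pointwise_iff_exists] at hz
    obtain ⟨_, ⟨y, rfl⟩, hy⟩ := hz
    obtain ⟨y, rfl⟩ := (S.e (q - 1)).surjective y
    refine ⟨_, ⟨y, rfl⟩, Subtype.ext ?_⟩
    show S.e q (K'.d (q - 1) q y) = z.1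
    rw [S.comm (q - 1) q (by omega)]
    exact hy

end Groth.Agent.KoszulRowLib
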