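import Groth.Agent.KoszulRowLib.TensorCone
import Groth.Prelude.Def_DTen
import Groth.Prelude.Def_Koszul

/-!
The tensor product of two Koszul complexes is the Koszul complex of the concatenation.
-/

set_option autoImplicit false
set_option linter.style.haveILetI false
set_option backward.isDefEq.respectTransparency false

universe u

open CategoryTheory CategoryTheory.Limits MonoidalCategory

noncomputable section

namespace Groth.Agent.KoszulRowLib

variable {A : Type u} [CommRing A]

theorem tmap_smul_id (a : A) (K G : DRing.Cx A) :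
    tmap (curriedTensor (ModuleCat.{u} A)) (a • 𝟙 K) G =
      a • 𝟙 (CochainComplex.mapBifunctor K G (curriedTensor (ModuleCat.{u} A))) := by
  refine HomologicalComplex.hom_ext _ _ fun n => ?_
  apply HomologicalComplex.mapBifunctor.hom_ext
  intro p q h
  erw [ι_tmap (curriedTensor (ModuleCat.{u} A)) G (a • 𝟙 K) p q n h]
  simp [HomologicalComplex.smul_f_apply, CochainComplex.ιMapBifunctor]

theorem nonempty_mappingCone_congr {X Y : DRing.Cx A} (a : A) (e : X ≅ Y) :
    Nonempty (CochainComplex.mappingCone (a • 𝟙 X) ≅ CochainComplex.mappingCone (a • 𝟙 Y)) :=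
  ⟨{ hom := CochainComplex.mappingCone.map _ _ e.hom e.hom (by simp)
     inv := CochainComplex.mappingCone.map _ _ e.inv e.inv (by simp)
     hom_inv_id := by simp [← CochainComplex.mappingCone.map_comp, CochainComplex.mappingCone.map_id]
     inv_hom_id := by simp [← CochainComplex.mappingCone.map_comp, CochainComplex.mappingCone.map_id] }⟩

theorem nonempty_koszul_tensor : ∀ f g : List A,
    Nonempty ((MonoidalCategoryStruct.tensorObj (C := DRing.Cx A) (Koszul.koszul A f) (Koszul.koszul A g)) ≅
      Koszul.koszul A (f ++ g))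
  | [], g => ⟨(λ_ (Koszul.koszul A g))⟩
  | a :: f, g => by
    obtain ⟨e⟩ := nonempty_koszul_tensor f g
    obtain ⟨e₁⟩ := nonempty_cone_tensor_iso (curriedTensor (ModuleCat.{u} A))
      (a • 𝟙 (Koszul.koszul A f)) (Koszul.koszul A g)
    rw [tmap_smul_id] at e₁
    obtain ⟨e₂⟩ := nonempty_mappingCone_congr a e
    exact ⟨e₁ ≪≫ e₂⟩

end Groth.Agent.KoszulRowLib
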