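import Mathlib

/-!
The total tensor product of a mapping cone is the mapping cone of the tensored map.
-/

set_option autoImplicit false
set_option linter.style.haveILetI false
set_option backward.isDefEq.respectTransparency false

universe v u

open CategoryTheory CategoryTheory.Limits CochainComplex CochainComplex.HomComplex

noncomputable section

namespace Groth.Agent.KoszulRowLib

variable {C : Type u} [Category.{v} C] [Preadditive C] [HasBinaryBiproducts C]
  (F : C ⥤ C ⥤ C) [F.Additive] [∀ X, (F.obj X).Additive]
  [∀ K₁ K₂ : CochainComplex C ℤ, CochainComplex.HasMapBifunctor K₁ K₂ F]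
  {K L : CochainComplex C ℤ} (φ : K ⟶ L) (G : CochainComplex C ℤ)

theorem ι_d (X : CochainComplex C ℤ) (p q n n' : ℤ) (h : p + q = n) (p' q' : ℤ) (hp : p + 1 = p')
    (hq : q + 1 = q') (hn : n + 1 = n') :
    CochainComplex.ιMapBifunctor X G F p q n h ≫ (CochainComplex.mapBifunctor X G F).d n n' =
      (F.map (X.d p p')).app (G.X q) ≫ CochainComplex.ιMapBifunctor X G F p' q n' (by omega) +
        p.negOnePow • ((F.obj (X.X p)).map (G.d q q') ≫
          CochainComplex.ιMapBifunctor X G F p q' n' (by omega)) := by
  show CochainComplex.ιMapBifunctor X G F p q n h ≫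
    (HomologicalComplex.mapBifunctor.D₁ X G F (ComplexShape.up ℤ) n n' +
      HomologicalComplex.mapBifunctor.D₂ X G F (ComplexShape.up ℤ) n n') = _
  simp only [Preadditive.comp_add]
  erw [HomologicalComplex.mapBifunctor.ι_D₁, HomologicalComplex.mapBifunctor.ι_D₂]
  rw [HomologicalComplex.mapBifunctor.d₁_eq X G F (ComplexShape.up ℤ) (i₁' := p') hp q n' (show p' + q = n' by omega),
    HomologicalComplex.mapBifunctor.d₂_eq X G F (ComplexShape.up ℤ) p (i₂' := q') hq n' (show p + q' = n' by omega),
    show ComplexShape.ε₁ (ComplexShape.up ℤ) (ComplexShape.up ℤ) (ComplexShape.up ℤ) (p, q) = 1 from rfl,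
    show ComplexShape.ε₂ (ComplexShape.up ℤ) (ComplexShape.up ℤ) (ComplexShape.up ℤ) (p, q) = p.negOnePow
      from rfl, one_smul]

/-- The tensored map. -/
abbrev tmap : CochainComplex.mapBifunctor K G F ⟶ CochainComplex.mapBifunctor L G F :=
  HomologicalComplex.mapBifunctorMap φ (𝟙 G) F (ComplexShape.up ℤ)

theorem ι_tmap {X Y : CochainComplex C ℤ} (ψ : X ⟶ Y) (p q n : ℤ) (h : p + q = n) :
    CochainComplex.ιMapBifunctor X G F p q n h ≫
        (HomologicalComplex.mapBifunctorMap ψ (𝟙 G) F (ComplexShape.up ℤ)).f n =
      (F.map (ψ.f p)).app (G.X q) ≫ CochainComplex.ιMapBifunctor Y G F p q n h := by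
  simp [CochainComplex.ιMapBifunctor]

/-- The left inclusion, tensored. -/
def coneInl : Cochain (CochainComplex.mapBifunctor K G F) (CochainComplex.mapBifunctor (mappingCone φ) G F) (-1) :=
  Cochain.mk fun n m hnm => HomologicalComplex.mapBifunctorDesc fun p q h =>
    (F.map ((mappingCone.inl φ).v p (p - 1) (by omega))).app (G.X q) ≫
      CochainComplex.ιMapBifunctor (mappingCone φ) G F (p - 1) q m (by have h' : p + q = n := h; omega)

theorem ι_coneInl (p q n m p' : ℤ) (h : p + q = n) (hm : n + (-1) = m) (hp : p + (-1) = p') :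
    CochainComplex.ιMapBifunctor K G F p q n h ≫ (coneInl F φ G).v n m hm =
      (F.map ((mappingCone.inl φ).v p p' hp)).app (G.X q) ≫
        CochainComplex.ιMapBifunctor (mappingCone φ) G F p' q m (by omega) := by
  obtain rfl : p' = p - 1 := by omega
  simp [coneInl, CochainComplex.ιMapBifunctor]

theorem δ_coneInl : δ (-1) 0 (coneInl F φ G) =
    Cochain.ofHom (tmap F φ G ≫ HomologicalComplex.mapBifunctorMap (mappingCone.inr φ) (𝟙 G) F (ComplexShape.up ℤ)) := by
  refine Cochain.ext₀ _ _ fun n => ?_
  rw [Cochain.ofHom_v, δ_v (-1) 0 (by omega) _ n n (by omega) (n - 1) (n + 1) (by omega) rfl]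
  apply HomologicalComplex.mapBifunctor.hom_ext
  intro p q h
  have h' : p + q = n := h
  rw [HomologicalComplex.comp_f, ← Category.assoc]
  erw [ι_tmap F G φ p q n h']
  simp only [Preadditive.comp_add, Linear.comp_units_smul, Int.negOnePow_zero, one_smul, Category.assoc]
  erw [ι_tmap F G (mappingCone.inr φ) p q n h']
  rw [← Category.assoc]
  erw [ι_coneInl F φ G p q n (n - 1) (p - 1) h' (by omega) (by omega)]
  rw [Category.assoc, ι_d F G (mappingCone φ) (p - 1) q (n - 1) n (by omega) p (q + 1) (by omega) rfl (by omega),
    ← Category.assoc]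
  erw [ι_d F G K p q n (n + 1) h' (p + 1) (q + 1) rfl rfl rfl]
  simp only [Preadditive.comp_add, Preadditive.add_comp, Category.assoc, Linear.comp_units_smul,
    Linear.units_smul_comp]
  erw [ι_coneInl F φ G (p + 1) q (n + 1) n p (by omega) (by omega) (by omega),
    ι_coneInl F φ G p (q + 1) (n + 1) n (p - 1) (by omega) (by omega) (by omega)]
  rw [← Category.assoc, ← NatTrans.comp_app, ← F.map_comp,
    mappingCone.inl_v_d φ p (p - 1) (p + 1) (by omega) (by omega)]
  simp only [F.map_sub, F.map_comp, NatTrans.app_sub, NatTrans.comp_app, Preadditive.sub_comp, Category.assoc]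
  rw [NatTrans.naturality_assoc, show (p - 1).negOnePow = -p.negOnePow by rw [Int.negOnePow_sub, Int.negOnePow_one, mul_neg, mul_one],
    Units.neg_smul]
  abel

/-- The comparison map. -/
def coneTensor : mappingCone (tmap F φ G) ⟶ CochainComplex.mapBifunctor (mappingCone φ) G F :=
  mappingCone.desc _ (coneInl F φ G)
    (HomologicalComplex.mapBifunctorMap (mappingCone.inr φ) (𝟙 G) F (ComplexShape.up ℤ)) (δ_coneInl F φ G)

/-- The inverse, degreewise. -/
def coneTensorInv (n : ℤ) :
    (CochainComplex.mapBifunctor (mappingCone φ) G F).X n ⟶ (mappingCone (tmap F φ G)).X n :=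
  HomologicalComplex.mapBifunctorDesc fun p q h =>
    (F.map ((mappingCone.fst φ).1.v p (p + 1) rfl)).app (G.X q) ≫
        CochainComplex.ιMapBifunctor K G F (p + 1) q (n + 1) (by have h' : p + q = n := h; omega) ≫
          (mappingCone.inl (tmap F φ G)).v (n + 1) n (by omega) +
      (F.map ((mappingCone.snd φ).v p p (add_zero p))).app (G.X q) ≫
        CochainComplex.ιMapBifunctor L G F p q n h ≫ (mappingCone.inr (tmap F φ G)).f n

theorem ι_coneTensorInv (p q n p' : ℤ) (h : p + q = n) (hp : p + 1 = p') :
    CochainComplex.ιMapBifunctor (mappingCone φ) G F p q n h ≫ coneTensorInv F φ G n =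
    (F.map ((mappingCone.fst φ).1.v p p' hp)).app (G.X q) ≫
        CochainComplex.ιMapBifunctor K G F p' q (n + 1) (by omega) ≫
          (mappingCone.inl (tmap F φ G)).v (n + 1) n (by omega) +
      (F.map ((mappingCone.snd φ).v p p (add_zero p))).app (G.X q) ≫
        CochainComplex.ιMapBifunctor L G F p q n h ≫ (mappingCone.inr (tmap F φ G)).f n := by
  subst hp
  simp [coneTensorInv, CochainComplex.ιMapBifunctor]

/-- The total tensor product of a cone is the cone of the tensored map. -/
theorem nonempty_cone_tensor_iso :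
    Nonempty (CochainComplex.mapBifunctor (mappingCone φ) G F ≅ mappingCone (tmap F φ G)) := by
  haveI : ∀ n, IsIso ((coneTensor F φ G).f n) := fun n => by
    refine ⟨coneTensorInv F φ G n, ?_, ?_⟩
    · refine mappingCone.ext_from _ (n + 1) n rfl ?_ ?_
      · rw [← Category.assoc, coneTensor, mappingCone.inl_v_desc_f, Category.comp_id]
        apply HomologicalComplex.mapBifunctor.hom_ext
        intro p q h
        have h' : p + q = n + 1 := h
        rw [← Category.assoc]
        erw [ι_coneInl F φ G p q (n + 1) n (p - 1) h' (by omega) (by omega)]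
        rw [Category.assoc, ι_coneTensorInv F φ G (p - 1) q n p (by omega) (by omega), Preadditive.comp_add,
          ← Category.assoc, ← NatTrans.comp_app, ← F.map_comp, mappingCone.inl_v_fst_v, F.map_id,
          NatTrans.id_app, Category.id_comp, ← Category.assoc (f := (F.map _).app _),
          ← NatTrans.comp_app, ← F.map_comp, mappingCone.inl_v_snd_v, F.map_zero]
        simp
      · rw [← Category.assoc, coneTensor, mappingCone.inr_f_desc_f, Category.comp_id]
        apply HomologicalComplex.mapBifunctor.hom_ext
        intro p q h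
        have h' : p + q = n := h
        rw [← Category.assoc]
        erw [ι_tmap F G (mappingCone.inr φ) p q n h']
        rw [Category.assoc, ι_coneTensorInv F φ G p q n (p + 1) h' rfl, Preadditive.comp_add,
          ← Category.assoc, ← NatTrans.comp_app, ← F.map_comp, mappingCone.inr_f_fst_v, F.map_zero,
          ← Category.assoc (f := (F.map _).app _), ← NatTrans.comp_app, ← F.map_comp,
          mappingCone.inr_f_snd_v, F.map_id]
        simp
    · apply HomologicalComplex.mapBifunctor.hom_ext
      intro p q h
      have h' : p + q = n := h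
      rw [← Category.assoc]
      erw [ι_coneTensorInv F φ G p q n (p + 1) h' rfl]
      simp only [coneTensor, Preadditive.add_comp, Category.assoc, mappingCone.inl_v_desc_f,
        mappingCone.inr_f_desc_f, Category.comp_id]
      erw [ι_coneInl F φ G (p + 1) q (n + 1) n p (by omega) (by omega) (by omega),
        ι_tmap F G (mappingCone.inr φ) p q n h']
      rw [← Category.assoc, ← Category.assoc (f := (F.map ((mappingCone.snd φ).v p p (add_zero p))).app _),
        ← NatTrans.comp_app, ← NatTrans.comp_app, ← F.map_comp, ← F.map_comp, ← Preadditive.add_comp,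
        ← NatTrans.app_add, ← F.map_add, mappingCone.id_X, F.map_id]
      simp
  exact ⟨(HomologicalComplex.Hom.isoOfComponents (fun n => asIso ((coneTensor F φ G).f n))
    fun i j _ => (coneTensor F φ G).comm i j).symm⟩

end Groth.Agent.KoszulRowLib
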